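import Mathlib
import Cfsg.Agent.Lib.Helper19.KAlt.Main
import Cfsg.Agent.Lib.Helper1.KAlt.RedQ
import Cfsg.Agent.Lib.Helper11.KAlt.Red1
import Cfsg.Agent.Lib.Helper88.KAlt.Red2
import Cfsg.Agent.Lib.Helper76.KAlt.Slide
import Cfsg.Agent.Lib.Helper76.KAlt.Restr
import Cfsg.Agent.Lib.Helper87.KAlt.Trans
import Cfsg.Agent.Lib.Helper87.KAlt.SemiOdd
import Cfsg.Agent.Lib.Helper84.KAlt.SemiEven
import Cfsg.Agent.Lib.Helper37.KAlt.ShN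
import Cfsg.Agent.Lib.Helper37.KAlt.ShSmall
import Cfsg.Agent.Lib.Helper34.KAlt.ShBig

/-!
# S0747 (project KALT): all packages, hypothesis-free
-/

set_option autoImplicit false

namespace Cfsg.Agent.Lib.Helper19.KAlt

universe u

theorem pkgMainK : PkgMainK.{u} :=
  pkgMainK_of Cfsg.Agent.Lib.Helper1.KAlt.pkgRedQ Cfsg.Agent.Lib.Helper11.KAlt.pkgRed1
    Cfsg.Agent.Lib.Helper88.KAlt.pkgRed2 Cfsg.Agent.Lib.Helper76.KAlt.pkgSlide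
    Cfsg.Agent.Lib.Helper76.KAlt.pkgRestr Cfsg.Agent.Lib.Helper87.KAlt.pkgTrans
    Cfsg.Agent.Lib.Helper84.KAlt.pkgSemiEven Cfsg.Agent.Lib.Helper87.KAlt.pkgSemiOdd
    Cfsg.Agent.Lib.Helper37.KAlt.pkgShN Cfsg.Agent.Lib.Helper37.KAlt.pkgShSmall
    Cfsg.Agent.Lib.Helper34.KAlt.pkgShBig

end Cfsg.Agent.Lib.Helper19.KAlt
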