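import Mathlib
import Cfsg.Agent.Lib.Helper19.KAlt.Defs5
import Cfsg.Agent.Lib.Helper75.LW.All

/-!
# S0748, project LW5: the assembly
-/

set_option autoImplicit false

namespace Cfsg.Agent.Lib.Helper19.KAlt

open Cfsg.Agent.Lib.Helper75.LW

universe u

theorem pkgMain5_of (hK : PkgMainK.{u}) (hEv1 : PkgEv1.{u}) (hEv2 : PkgEv2.{u})
    (hNo : PkgNoInv4.{u}) (hHall : PkgHall5.{u}) : PkgMain5.{u} := by
  intro α _ _ G k hk hkn hH
  have hT1 : HT G (k - 1) := allMain allRigid G k (by omega) hkn hH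
  by_contra hTk
  have hGood : Good G (k - 1) := hK G (k - 1) (by omega) (by omega) hT1
  have hAlt : AltOn G k := by
    obtain ⟨Δ, hΔ, h⟩ := hGood
    exact ⟨Δ, by omega, h⟩
  have hEven : EvenOn G k := by
    by_contra hE
    exact hTk (hEv2 G k hH (hEv1 G k hH hAlt hE))
  have hNoInv : NoInv G 4 := hNo G k hk hkn hEven
  have hT4 : HT G 4 := allMono G 4 (k - 1) (by omega) (by omega) hT1
  exact hHall G k hk hkn hT4 hNoInv hH

end Cfsg.Agent.Lib.Helper19.KAlt
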